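import Mathlib
import Cfsg.Prelude.Def_Classical
import Cfsg.Agent.LargeExtra.Cards
import Cfsg.Agent.LieClassical.OrthCenter
import Cfsg.Agent.S0303
import Cfsg.Agent.S0815

/-! `Aut (U4(2)) ≅ O6⁻(2)`. -/

set_option autoImplicit false

namespace Cfsg.Agent.H845.AutUFour

open Cfsg Cfsg.Agent.LieClassical.OmegaReindex

/-- the quadratic form -/
abbrev Q6 : ((Fin 2 ⊕ Fin 2) ⊕ Fin 2 → ZMod 2) → ZMod 2 := quadFormMinus 2 (ZMod 2) 1 1

theorem eq_one_of_commute {g : isometryGroup (ZMod 2) Q6}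
    (hg : ∀ h ∈ Omega (ZMod 2) Q6, g * h = h * g) : g = 1 := by
  have hQ : (QuadraticMap.polarBilin (quadMinus 2 (ZMod 2) 1 1)).Nondegenerate :=
    quadMinus_nondegenerate Cfsg.Agent.LargeExtra.Cards.aniso
  have key := Cfsg.Agent.LieClassical.OrthCenter.eq_one_or_neg_one_of_commute_omega
    (Q := quadMinus 2 (ZMod 2) 1 1) hQ (by simp [Fintype.card_sum]) ?_
  · rw [coe_quadMinus] at key
    have h2 := key g hg
    have h3 : ((-1 : Matrix ((Fin 2 ⊕ Fin 2) ⊕ Fin 2) ((Fin 2 ⊕ Fin 2) ⊕ Fin 2) (ZMod 2))) = 1 := by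
      have : (-1 : ZMod 2) = 1 := by decide
      ext i j
      simp only [Matrix.neg_apply]
      exact neg_eq_of_add_eq_zero_left (by
        generalize (1 : Matrix ((Fin 2 ⊕ Fin 2) ⊕ Fin 2) ((Fin 2 ⊕ Fin 2) ⊕ Fin 2) (ZMod 2)) i j = a
        revert a; decide)
    rw [h3, or_self] at h2
    apply Subtype.ext
    apply Units.ext
    exact h2
  · refine ⟨fun i => if i = .inl (.inl 0) then 1 else 0, ?_, ?_⟩
    · intro h
      have := congrFun h (.inl (.inl 0))
      simp at this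
    · rw [coe_quadMinus]
      decide

theorem card_omega : Nat.card (Omega (ZMod 2) Q6) = 25920 :=
  Cfsg.Agent.LargeExtra.Cards.card_omega_minus_six

theorem card_isometry : Nat.card (isometryGroup (ZMod 2) Q6) = 51840 := by
  have hcard := Cfsg.Agent.S0288.result (F := ZMod 2) (q := 2) (ZMod.card 2) 3 (by norm_num) 1 1
    Cfsg.Agent.LargeExtra.Cards.aniso
  have h2 : Nat.card (Cfsg.isometryGroup (ZMod 2) (Cfsg.quadFormMinus (3 - 1) (ZMod 2) 1 1)) = 51840 := by
    rw [hcard]; decide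
  exact h2

/-- the conjugation action on `Ω` -/
def conjHom : isometryGroup (ZMod 2) Q6 →* MulAut (Omega (ZMod 2) Q6) := MulAut.conjNormal

theorem conjHom_injective : Function.Injective conjHom := by
  rw [injective_iff_map_eq_one]
  intro g hg
  apply eq_one_of_commute
  intro h hh
  have := congrArg (fun x => ((x : MulAut (Omega (ZMod 2) Q6)) ⟨h, hh⟩ : isometryGroup (ZMod 2) Q6)) hg
  simp only [conjHom, MulAut.conjNormal_apply, MulAut.one_apply] at this
  calc g * h = g * h * g⁻¹ * g := by group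
    _ = h * g := by rw [this]

theorem center_omega : Subgroup.center (Omega (ZMod 2) Q6) = ⊥ := by
  have hQ : (QuadraticMap.polarBilin (quadMinus 2 (ZMod 2) 1 1)).Nondegenerate :=
    quadMinus_nondegenerate Cfsg.Agent.LargeExtra.Cards.aniso
  rw [eq_bot_iff]
  intro x hx
  rw [Subgroup.mem_bot]
  rw [Subgroup.mem_center_iff] at hx
  apply Subtype.ext
  apply eq_one_of_commute
  intro h hh
  have := congrArg (fun y => ((y : Omega (ZMod 2) Q6) : isometryGroup (ZMod 2) Q6)) (hx ⟨h, hh⟩)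
  exact this.symm

theorem nonempty_equiv_omega : Nonempty (Omega (ZMod 2) Q6 ≃* POmega (ZMod 2) Q6) := by
  refine ⟨MulEquiv.ofBijective (QuotientGroup.mk' _) ⟨?_, QuotientGroup.mk'_surjective _⟩⟩
  rw [← MonoidHom.ker_eq_bot_iff, QuotientGroup.ker_mk', center_omega]

theorem card_mulAut_PSU {F : Type*} [Field F] [Fintype F] (hF : Fintype.card F = 4) :
    Nat.card (MulAut (PSU 4 F 2)) = 2 * Nat.card (PSU 4 F 2) := by
  have h := Cfsg.Agent.S0815.result (F := F) 2 1 le_rfl (q := 2) rfl hF 4 (by norm_num) (by norm_num)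
  rw [h]
  norm_num

/-- **`Aut (U4(2)) ≅ O6⁻(2)`** -/
theorem nonempty_equiv {F : Type*} [Field F] [Fintype F] (hF : Fintype.card F = 4) :
    Nonempty (MulAut (PSU 4 F 2) ≃* isometryGroup (ZMod 2) Q6) := by
  obtain ⟨e⟩ := Cfsg.Agent.S0303.result (F := ZMod 2) (K := F) (q := 2) (ZMod.card 2) hF 1 1
    Cfsg.Agent.LargeExtra.Cards.aniso
  obtain ⟨e'⟩ := nonempty_equiv_omega
  have f : Omega (ZMod 2) Q6 ≃* PSU 4 F 2 := e'.trans e
  have hc : Nat.card (MulAut (Omega (ZMod 2) Q6)) = 51840 := by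
    rw [Nat.card_congr (MulAut.congr f).toEquiv, card_mulAut_PSU hF, ← Nat.card_congr f.toEquiv, card_omega]
  have hfin : Finite (MulAut (Omega (ZMod 2) Q6)) := Nat.finite_of_card_ne_zero (by rw [hc]; norm_num)
  have hbij : Function.Bijective conjHom :=
    (Nat.bijective_iff_injective_and_card conjHom).2 ⟨conjHom_injective, by rw [hc, card_isometry]⟩
  exact ⟨(MulAut.congr f).symm.trans (MulEquiv.ofBijective conjHom hbij).symm⟩

end Cfsg.Agent.H845.AutUFour
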