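import Mathlib
import Cfsg.Prelude.Def_ChevG2
import Cfsg.Prelude.Def_Chevalley
import Cfsg.Agent.H839.Count

/-!
# Elements of order 13 in a group of type M(24): the abstract part

`Facts G D l k u v x s`: `l, k` and `u, v` are non-commuting pairs of 3-transpositions, commuting with each other,
`K = C(l, k, u, v) ≅ G₂(3)` contains `x` of order 13, `C_K(x) = ⟨x⟩`, the members of `D` commuting with `x` are the
six of `⟨l, k⟩ ∪ ⟨u, v⟩`, and `s` interchanges the pairs.
-/

set_option autoImplicit false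
set_option linter.unusedSimpArgs false

namespace Cfsg.Agent.H845.T13Concl

open Subgroup

universe v

/-- the facts -/
structure Facts (G : Type v) [Group G] (D : Set G) (l k u v x s : G) : Prop where
  card : Nat.card G = 2510411418381323442585600
  hl : l ∈ D
  hk : k ∈ D
  hu : u ∈ D
  hv : v ∈ D
  conj : ∀ g : G, ∀ d ∈ D, g * d * g⁻¹ ∈ D
  ll : l * l = 1
  kk : k * k = 1
  uu : u * u = 1
  vv : v * v = 1
  lk : l * k * l = k * l * k
  uv : u * v * u = v * u * v
  lkn : l * k ≠ k * l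
  uvn : u * v ≠ v * u
  lu : l * u = u * l
  lv : l * v = v * l
  ku : k * u = u * k
  kv : k * v = v * k
  x13 : x ^ 13 = 1
  x1 : x ≠ 1
  xl : x * l = l * x
  xk : x * k = k * x
  xu : x * u = u * x
  xv : x * v = v * x
  fix : ∀ d ∈ D, d * x = x * d → d = l ∨ d = k ∨ d = l * k * l ∨ d = u ∨ d = v ∨ d = u * v * u
  s1 : s * l * s⁻¹ = u
  s2 : s * k * s⁻¹ = v
  s3 : s * u * s⁻¹ = k
  s4 : s * v * s⁻¹ = l
  cardK : Nat.card ↥(centralizer ({l, k, u, v} : Set G)) = 4245696
  iso : Nonempty (↥(centralizer ({l, k, u, v} : Set G)) ≃* ↥(Cfsg.Lie.chevG2.group (ZMod 3)))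
  cent : ∀ c ∈ centralizer ({l, k, u, v} : Set G), c * x = x * c → c ∈ zpowers x

theorem mem4 {G : Type*} [Group G] {l k u v c : G} : c ∈ centralizer ({l, k, u, v} : Set G) ↔
    c * l = l * c ∧ c * k = k * c ∧ c * u = u * c ∧ c * v = v * c := by
  rw [mem_centralizer_iff]
  constructor
  · intro h
    exact ⟨(h l (by simp)).symm, (h k (by simp)).symm, (h u (by simp)).symm, (h v (by simp)).symm⟩
  · rintro ⟨h1, h2, h3, h4⟩ y (rfl | rfl | rfl | rfl)
    exacts [h1.symm, h2.symm, h3.symm, h4.symm]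

/-- transport along an isomorphism -/
theorem Facts.map {G G' : Type*} [Group G] [Group G'] {D : Set G} {l k u v x s : G}
    (h : Facts G D l k u v x s) (e : G ≃* G') : Facts G' (e '' D) (e l) (e k) (e u) (e v) (e x) (e s) := by
  have key : ∀ c : G, e c ∈ centralizer ({e l, e k, e u, e v} : Set G') ↔ c ∈ centralizer ({l, k, u, v} : Set G) := by
    intro c
    rw [mem4, mem4]
    simp only [← map_mul, e.injective.eq_iff]
  let E : ↥(centralizer ({l, k, u, v} : Set G)) ≃* ↥(centralizer ({e l, e k, e u, e v} : Set G')) :=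
    { toFun := fun c => ⟨e c, (key c).2 c.2⟩
      invFun := fun c => ⟨e.symm c, (key _).1 (by rw [e.apply_symm_apply]; exact c.2)⟩
      left_inv := fun c => Subtype.ext (e.symm_apply_apply _)
      right_inv := fun c => Subtype.ext (e.apply_symm_apply _)
      map_mul' := fun a b => Subtype.ext (map_mul e _ _) }
  have c1 : ∀ {a b : G}, a * b = b * a → e a * e b = e b * e a := fun {a b} h => by
    rw [← map_mul, h, map_mul]
  exact
    { card := by rw [← Nat.card_congr e.toEquiv]; exact h.card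
      hl := ⟨_, h.hl, rfl⟩
      hk := ⟨_, h.hk, rfl⟩
      hu := ⟨_, h.hu, rfl⟩
      hv := ⟨_, h.hv, rfl⟩
      conj := by
        rintro g _ ⟨d, hd, rfl⟩
        refine ⟨e.symm g * d * (e.symm g)⁻¹, h.conj _ d hd, ?_⟩
        simp
      ll := by rw [← map_mul, h.ll, map_one]
      kk := by rw [← map_mul, h.kk, map_one]
      uu := by rw [← map_mul, h.uu, map_one]
      vv := by rw [← map_mul, h.vv, map_one]
      lk := by simp only [← map_mul, h.lk]
      uv := by simp only [← map_mul, h.uv]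
      lkn := by
        simp only [← map_mul]
        exact fun h' => h.lkn (e.injective h')
      uvn := by
        simp only [← map_mul]
        exact fun h' => h.uvn (e.injective h')
      lu := c1 h.lu
      lv := c1 h.lv
      ku := c1 h.ku
      kv := c1 h.kv
      x13 := by rw [← map_pow, h.x13, map_one]
      x1 := fun h' => h.x1 (e.injective (by rw [h', map_one]))
      xl := c1 h.xl
      xk := c1 h.xk
      xu := c1 h.xu
      xv := c1 h.xv
      fix := by
        rintro _ ⟨d, hd, rfl⟩ hx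
        simp only [← map_mul, e.injective.eq_iff] at hx ⊢
        exact h.fix d hd hx
      s1 := by rw [← h.s1]; simp
      s2 := by rw [← h.s2]; simp
      s3 := by rw [← h.s3]; simp
      s4 := by rw [← h.s4]; simp
      cardK := by rw [← Nat.card_congr E.toEquiv]; exact h.cardK
      iso := h.iso.map fun f => E.symm.trans f
      cent := by
        intro c hc hx
        obtain ⟨c, rfl⟩ := e.surjective c
        rw [key] at hc
        simp only [← map_mul, e.injective.eq_iff] at hx
        obtain ⟨n, hn⟩ := mem_zpowers_iff.1 (h.cent c hc hx)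
        rw [← hn, map_zpow]
        exact zpow_mem (mem_zpowers _) n }

/-- subgroups of prime order `p`, `p² ∤ |G|`, are conjugate -/
theorem exists_conj_of_card_prime {G : Type*} [Group G] [Finite G] {p : ℕ} (hp : p.Prime)
    (h2 : ¬ p ^ 2 ∣ Nat.card G) (X Y : Subgroup G) (hX : Nat.card X = p) (hY : Nat.card Y = p) :
    ∃ g : G, X.map (MulAut.conj g).toMonoidHom = Y := by
  have : Fact p.Prime := ⟨hp⟩
  have key : ∀ X : Subgroup G, Nat.card X = p → ∃ P : Sylow p G, (P : Subgroup G) = X := by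
    intro X hX
    have hpX : IsPGroup p ↥X := IsPGroup.of_card (n := 1) (by rw [hX, pow_one])
    obtain ⟨P, hP⟩ := hpX.exists_le_sylow
    refine ⟨P, ?_⟩
    symm
    apply eq_of_le_of_card_ge hP
    rw [hX]
    obtain ⟨n, hn⟩ := IsPGroup.iff_card.1 P.isPGroup'
    have h1 : p ^ n ∣ Nat.card G := by rw [← hn]; exact card_subgroup_dvd_card _
    have h3 : n < 2 := by
      by_contra h3
      exact h2 ((pow_dvd_pow p (by omega)).trans h1)
    rw [show Nat.card ↥(P : Subgroup G) = p ^ n from hn]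
    calc p ^ n ≤ p ^ 1 := Nat.pow_le_pow_right hp.pos (by omega)
      _ = p := pow_one p
  obtain ⟨P, rfl⟩ := key X hX
  obtain ⟨Q, rfl⟩ := key Y hY
  obtain ⟨g, rfl⟩ := MulAction.exists_smul_eq G P Q
  exact ⟨g, rfl⟩

/-- transitivity of `⟨a, b⟩ ≅ S₃` on the ordered pairs of its three involutions -/
theorem exists_sym {G : Type*} [Group G] {a b : G} (aa : a * a = 1) (bb : b * b = 1)
    (ab : a * b * a = b * a * b) {p q : G} (hp : p = a ∨ p = b ∨ p = a * b * a)
    (hq : q = a ∨ q = b ∨ q = a * b * a) (hpq : p ≠ q) :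
    ∃ t ∈ closure ({a, b} : Set G), t * a * t⁻¹ = p ∧ t * b * t⁻¹ = q := by
  have ha : a ∈ closure ({a, b} : Set G) := subset_closure (by simp)
  have hb : b ∈ closure ({a, b} : Set G) := subset_closure (by simp)
  have ia : a⁻¹ = a := inv_eq_of_mul_eq_one_right aa
  have ib : b⁻¹ = b := inv_eq_of_mul_eq_one_right bb
  have c1 : ∀ y : G, a * (a * y) = y := fun y => by rw [← mul_assoc, aa, one_mul]
  have c2 : ∀ y : G, b * (b * y) = y := fun y => by rw [← mul_assoc, bb, one_mul]
  have ab' : a * (b * a) = b * (a * b) := by rw [← mul_assoc, ab, mul_assoc]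
  have c3 : ∀ y : G, a * (b * (a * y)) = b * (a * (b * y)) := fun y => by
    rw [← mul_assoc, ← mul_assoc, ab, mul_assoc, mul_assoc]
  rcases hp with rfl | rfl | rfl <;> rcases hq with rfl | rfl | rfl
  · exact absurd rfl hpq
  · exact ⟨1, one_mem _, by group, by group⟩
  · exact ⟨p, ha, by rw [ia, aa, one_mul], by rw [ia]⟩
  · exact ⟨q * p * q, mul_mem (mul_mem ha hb) ha, by
      simp only [mul_inv_rev, ia, ib, mul_assoc, c1, c2, aa, bb, mul_one, ab', c3], by
      simp only [mul_inv_rev, ia, ib, mul_assoc, c1, c2, aa, bb, mul_one, ab', c3]⟩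
  · exact absurd rfl hpq
  · exact ⟨a * p, mul_mem ha hb, by
      simp only [mul_inv_rev, ia, ib, mul_assoc, c1, c2, aa, bb, mul_one, ab', c3], by
      simp only [mul_inv_rev, ia, ib, mul_assoc, c1, c2, aa, bb, mul_one, ab', c3]⟩
  · exact ⟨b * q, mul_mem hb ha, by
      simp only [mul_inv_rev, ia, ib, mul_assoc, c1, c2, aa, bb, mul_one, ab', c3], by
      simp only [mul_inv_rev, ia, ib, mul_assoc, c1, c2, aa, bb, mul_one, ab', c3]⟩
  · exact ⟨q, hb, by rw [ib, ← ab], by rw [ib, bb, one_mul]⟩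
  · exact absurd rfl hpq

/-- distinct involutions of `⟨a, b⟩ ≅ S₃` do not commute -/
theorem nc_of_ne {G : Type*} [Group G] {a b : G} (aa : a * a = 1) (bb : b * b = 1)
    (ab : a * b * a = b * a * b) (hn : a * b ≠ b * a) {p q : G} (hp : p = a ∨ p = b ∨ p = a * b * a)
    (hq : q = a ∨ q = b ∨ q = a * b * a) (hpq : p ≠ q) : p * q ≠ q * p := by
  obtain ⟨t, -, h1, h2⟩ := exists_sym aa bb ab hp hq hpq
  rw [← h1, ← h2]
  intro h
  apply hn
  have h3 : t * (a * b) * t⁻¹ = t * (b * a) * t⁻¹ := by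
    calc t * (a * b) * t⁻¹ = t * a * t⁻¹ * (t * b * t⁻¹) := by group
      _ = t * b * t⁻¹ * (t * a * t⁻¹) := h
      _ = t * (b * a) * t⁻¹ := by group
  exact mul_left_cancel (mul_right_cancel h3)

/-- an involution of `⟨a, b⟩` commuting with two distinct ones does not exist -/
theorem not_comm_two {G : Type*} [Group G] {a b : G} (aa : a * a = 1) (bb : b * b = 1)
    (ab : a * b * a = b * a * b) (hn : a * b ≠ b * a) {p q r : G} (hp : p = a ∨ p = b ∨ p = a * b * a)
    (hq : q = a ∨ q = b ∨ q = a * b * a) (hr : r = a ∨ r = b ∨ r = a * b * a) (hpq : p ≠ q)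
    (h1 : r * p = p * r) (h2 : r * q = q * r) : False := by
  by_cases h : r = p
  · subst h
    exact nc_of_ne aa bb ab hn hr hq hpq h2
  · exact nc_of_ne aa bb ab hn hr hp h h1

section

variable {G : Type v} [Group G] {D : Set G} {l k u v x s : G} (h : Facts G D l k u v x s)

/-- the involutions of `⟨a, b⟩` -/
def Tri (a b p : G) : Prop := p = a ∨ p = b ∨ p = a * b * a

include h

theorem mem_cen {d : G} (hd : Tri l k d ∨ Tri u v d) {c : G} (hc : c ∈ centralizer ({l, k, u, v} : Set G)) :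
    c * d = d * c := by
  obtain ⟨h1, h2, h3, h4⟩ := mem4.1 hc
  have h5 : Commute c (l * k * l) := ((show Commute c l from h1).mul_right h2).mul_right h1
  have h6 : Commute c (u * v * u) := ((show Commute c u from h3).mul_right h4).mul_right h3
  rcases hd with (rfl | rfl | rfl) | (rfl | rfl | rfl)
  exacts [h1, h2, h5, h3, h4, h6]

theorem x_mem : x ∈ centralizer ({l, k, u, v} : Set G) := mem4.2 ⟨h.xl, h.xk, h.xu, h.xv⟩

/-- members of the two triples commute -/
theorem tri_comm {p q : G} (hp : Tri l k p) (hq : Tri u v q) : p * q = q * p := by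
  have h1 : Commute l u := h.lu
  have h2 : Commute l v := h.lv
  have h3 : Commute k u := h.ku
  have h4 : Commute k v := h.kv
  have h5 : Commute l q := by
    rcases hq with rfl | rfl | rfl
    exacts [h1, h2, (h1.mul_right h2).mul_right h1]
  have h6 : Commute k q := by
    rcases hq with rfl | rfl | rfl
    exacts [h3, h4, (h3.mul_right h4).mul_right h3]
  rcases hp with rfl | rfl | rfl
  exacts [h5, h6, (h5.mul_left h6).mul_left h5]

theorem tri_disj {p : G} (hp : Tri l k p) (hq : Tri u v p) : False :=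
  not_comm_two h.uu h.vv h.uv h.uvn (Or.inl rfl) (Or.inr (Or.inl rfl)) hq
    (fun e => h.uvn (by rw [e])) (tri_comm h hp (Or.inl rfl)) (tri_comm h hp (Or.inr (Or.inl rfl)))

theorem six {g : G} (hg : g ∈ normalizer ((zpowers x : Subgroup G) : Set G)) {d : G} (hd : d ∈ D)
    (hdx : d * x = x * d) : Tri l k (g * d * g⁻¹) ∨ Tri u v (g * d * g⁻¹) := by
  have h1 : g * d * g⁻¹ * x = x * (g * d * g⁻¹) := by
    have h2 : g⁻¹ * x * g ∈ zpowers x := by
      have h3 := (mem_normalizer_iff.1 (inv_mem hg) x).1 (mem_zpowers x)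
      rwa [inv_inv] at h3
    obtain ⟨n, hn⟩ := mem_zpowers_iff.1 h2
    have h4 : d * (g⁻¹ * x * g) = (g⁻¹ * x * g) * d := by
      rw [← hn]
      exact (show Commute d x from hdx).zpow_right n
    calc g * d * g⁻¹ * x = g * (d * (g⁻¹ * x * g)) * g⁻¹ := by group
      _ = g * ((g⁻¹ * x * g) * d) * g⁻¹ := by rw [h4]
      _ = x * (g * d * g⁻¹) := by group
  rcases h.fix _ (h.conj g d hd) h1 with e | e | e | e | e | e
  exacts [Or.inl (Or.inl e), Or.inl (Or.inr (Or.inl e)), Or.inl (Or.inr (Or.inr e)), Or.inr (Or.inl e),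
    Or.inr (Or.inr (Or.inl e)), Or.inr (Or.inr (Or.inr e))]

/-- if `g ∈ N(⟨x⟩)` maps `l` to the first triple, it preserves the triples -/
theorem pres {g : G} (hg : g ∈ normalizer ((zpowers x : Subgroup G) : Set G)) (h1 : Tri l k (g * l * g⁻¹)) :
    Tri l k (g * k * g⁻¹) ∧ Tri u v (g * u * g⁻¹) ∧ Tri u v (g * v * g⁻¹) := by
  have hc : ∀ {a b : G}, a * b = b * a → g * a * g⁻¹ * (g * b * g⁻¹) = g * b * g⁻¹ * (g * a * g⁻¹) := by
    intro a b hab
    calc g * a * g⁻¹ * (g * b * g⁻¹) = g * (a * b) * g⁻¹ := by group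
      _ = g * (b * a) * g⁻¹ := by rw [hab]
      _ = g * b * g⁻¹ * (g * a * g⁻¹) := by group
  have hc' : ∀ {a b : G}, g * a * g⁻¹ * (g * b * g⁻¹) = g * b * g⁻¹ * (g * a * g⁻¹) → a * b = b * a := by
    intro a b hab
    have : g * (a * b) * g⁻¹ = g * (b * a) * g⁻¹ := by
      calc g * (a * b) * g⁻¹ = g * a * g⁻¹ * (g * b * g⁻¹) := by group
        _ = g * b * g⁻¹ * (g * a * g⁻¹) := hab
        _ = g * (b * a) * g⁻¹ := by group
    exact mul_left_cancel (mul_right_cancel this)
  have hne : g * l * g⁻¹ ≠ g * k * g⁻¹ := fun e => h.lkn (by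
    have : l = k := mul_left_cancel (mul_right_cancel e)
    rw [this])
  have h2 : Tri l k (g * k * g⁻¹) := by
    rcases six h hg h.hk h.xk.symm with h2 | h2
    · exact h2
    · exact absurd (hc' (tri_comm h h1 h2)) h.lkn
  have h3 : ∀ y ∈ D, y * x = x * y → l * y = y * l → k * y = y * k → Tri u v (g * y * g⁻¹) := by
    intro y hy hyx hly hky
    rcases six h hg hy hyx with h3 | h3
    · exact (not_comm_two h.ll h.kk h.lk h.lkn h1 h2 h3 hne (hc hly).symm (hc hky).symm).elim
    · exact h3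
  exact ⟨h2, h3 u h.hu h.xu.symm h.lu h.ku, h3 v h.hv h.xv.symm h.lv h.kv⟩

theorem zpowers_le_K : zpowers x ≤ centralizer ({l, k, u, v} : Set G) := by
  rw [zpowers_le]
  exact x_mem h

/-- `T = ⟨l, u, v, k⟩` centralizes `x` -/
theorem T_le : closure ({l, u, v, k} : Set G) ≤ normalizer ((zpowers x : Subgroup G) : Set G) := by
  have h1 : closure ({l, u, v, k} : Set G) ≤ centralizer ((zpowers x : Subgroup G) : Set G) := by
    rw [closure_le]
    intro y hy
    rw [SetLike.mem_coe, mem_centralizer_iff]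
    intro z hz
    obtain ⟨n, rfl⟩ := mem_zpowers_iff.1 hz
    have h2 : Commute x y := by
      rcases hy with rfl | rfl | rfl | rfl
      exacts [h.xl, h.xu, h.xv, h.xk]
    exact h2.zpow_left n
  exact h1.trans (centralizer_le_normalizer _)

/-- the elements preserving the triples -/
theorem mem_N1 {g : G} (hg : g ∈ normalizer ((zpowers x : Subgroup G) : Set G)) (h1 : Tri l k (g * l * g⁻¹)) :
    g ∈ (centralizer ({l, k, u, v} : Set G) ⊓ normalizer ((zpowers x : Subgroup G) : Set G)) ⊔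
      closure ({l, u, v, k} : Set G) := by
  obtain ⟨h2, h3, h4⟩ := pres h hg h1
  have hne : g * l * g⁻¹ ≠ g * k * g⁻¹ := fun e => h.lkn (by
    have : l = k := mul_left_cancel (mul_right_cancel e)
    rw [this])
  have hne' : g * u * g⁻¹ ≠ g * v * g⁻¹ := fun e => h.uvn (by
    have : u = v := mul_left_cancel (mul_right_cancel e)
    rw [this])
  obtain ⟨t1, ht1, a1, a2⟩ := exists_sym h.ll h.kk h.lk h1 h2 hne
  obtain ⟨t2, ht2, b1, b2⟩ := exists_sym h.uu h.vv h.uv h3 h4 hne'
  have c1 : closure ({l, k} : Set G) ≤ closure ({l, u, v, k} : Set G) := closure_mono (by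
    rintro y (rfl | rfl) <;> simp)
  have c2 : closure ({u, v} : Set G) ≤ closure ({l, u, v, k} : Set G) := closure_mono (by
    rintro y (rfl | rfl) <;> simp)
  have e1 : ∀ y, (∀ z ∈ ({l, k} : Set G), y * z = z * y) → y * t1 = t1 * y := by
    intro y hy
    have : closure ({l, k} : Set G) ≤ centralizer ({y} : Set G) := by
      rw [closure_le]
      intro z hz
      rw [SetLike.mem_coe, mem_centralizer_singleton_iff]
      exact (hy z hz).symm
    exact (mem_centralizer_singleton_iff.1 (this ht1)).symm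
  have e2 : ∀ y, (∀ z ∈ ({u, v} : Set G), y * z = z * y) → y * t2 = t2 * y := by
    intro y hy
    have : closure ({u, v} : Set G) ≤ centralizer ({y} : Set G) := by
      rw [closure_le]
      intro z hz
      rw [SetLike.mem_coe, mem_centralizer_singleton_iff]
      exact (hy z hz).symm
    exact (mem_centralizer_singleton_iff.1 (this ht2)).symm
  have f1 : u * t1 = t1 * u := e1 u (by rintro z (rfl | rfl); exacts [h.lu.symm, h.ku.symm])
  have f2 : v * t1 = t1 * v := e1 v (by rintro z (rfl | rfl); exacts [h.lv.symm, h.kv.symm])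
  have f3 : l * t2 = t2 * l := e2 l (by rintro z (rfl | rfl); exacts [h.lu, h.lv])
  have f4 : k * t2 = t2 * k := e2 k (by rintro z (rfl | rfl); exacts [h.ku, h.kv])
  have f5 : t1 * t2 = t2 * t1 := e2 t1 (by
    rintro z (rfl | rfl)
    exacts [f1.symm, f2.symm])
  have hT : t1 * t2 ∈ closure ({l, u, v, k} : Set G) := mul_mem (c1 ht1) (c2 ht2)
  have key : ∀ y : G, g * y * g⁻¹ = t1 * t2 * y * (t1 * t2)⁻¹ → (t1 * t2)⁻¹ * g * y = y * ((t1 * t2)⁻¹ * g) := by
    intro y hy
    have : (t1 * t2)⁻¹ * g * y = (t1 * t2)⁻¹ * (g * y * g⁻¹) * g := by group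
    rw [this, hy]
    group
  have g1 : g * l * g⁻¹ = t1 * t2 * l * (t1 * t2)⁻¹ := by
    calc g * l * g⁻¹ = t1 * l * t1⁻¹ := a1.symm
      _ = t1 * (l * t2) * t2⁻¹ * t1⁻¹ := by group
      _ = t1 * (t2 * l) * t2⁻¹ * t1⁻¹ := by rw [f3]
      _ = t1 * t2 * l * (t1 * t2)⁻¹ := by group
  have g2 : g * k * g⁻¹ = t1 * t2 * k * (t1 * t2)⁻¹ := by
    calc g * k * g⁻¹ = t1 * k * t1⁻¹ := a2.symm
      _ = t1 * (k * t2) * t2⁻¹ * t1⁻¹ := by group
      _ = t1 * (t2 * k) * t2⁻¹ * t1⁻¹ := by rw [f4]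
      _ = t1 * t2 * k * (t1 * t2)⁻¹ := by group
  have g3 : g * u * g⁻¹ = t1 * t2 * u * (t1 * t2)⁻¹ := by
    rw [f5]
    calc g * u * g⁻¹ = t2 * u * t2⁻¹ := b1.symm
      _ = t2 * (u * t1) * t1⁻¹ * t2⁻¹ := by group
      _ = t2 * (t1 * u) * t1⁻¹ * t2⁻¹ := by rw [f1]
      _ = t2 * t1 * u * (t2 * t1)⁻¹ := by group
  have g4 : g * v * g⁻¹ = t1 * t2 * v * (t1 * t2)⁻¹ := by
    rw [f5]
    calc g * v * g⁻¹ = t2 * v * t2⁻¹ := b2.symm
      _ = t2 * (v * t1) * t1⁻¹ * t2⁻¹ := by group
      _ = t2 * (t1 * v) * t1⁻¹ * t2⁻¹ := by rw [f2]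
      _ = t2 * t1 * v * (t2 * t1)⁻¹ := by group
  have hK : (t1 * t2)⁻¹ * g ∈ centralizer ({l, k, u, v} : Set G) := mem4.2 ⟨key l g1, key k g2, key u g3, key v g4⟩
  have hN : (t1 * t2)⁻¹ * g ∈ normalizer ((zpowers x : Subgroup G) : Set G) :=
    mul_mem (inv_mem (T_le h hT)) hg
  have : g = (t1 * t2) * ((t1 * t2)⁻¹ * g) := by group
  rw [this]
  exact mul_mem (mem_sup_right hT) (mem_sup_left ⟨hK, hN⟩)

/-- conversely -/
theorem tri_of_mem_N1 {g : G} (hg : g ∈ (centralizer ({l, k, u, v} : Set G) ⊓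
    normalizer ((zpowers x : Subgroup G) : Set G)) ⊔ closure ({l, u, v, k} : Set G)) :
    Tri l k (g * l * g⁻¹) := by
  have hgN : g ∈ normalizer ((zpowers x : Subgroup G) : Set G) := (sup_le inf_le_right (T_le h)) hg
  have h1 : (centralizer ({l, k, u, v} : Set G) ⊓ normalizer ((zpowers x : Subgroup G) : Set G)) ⊔
      closure ({l, u, v, k} : Set G) ≤ normalizer ((closure ({l, k} : Set G) : Subgroup G) : Set G) := by
    apply sup_le
    · refine inf_le_left.trans ?_
      intro c hc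
      have h2 : c ∈ centralizer ((closure ({l, k} : Set G) : Subgroup G) : Set G) := by
        rw [centralizer_closure, mem_centralizer_iff]
        obtain ⟨h1, h2, -, -⟩ := mem4.1 hc
        rintro y (rfl | rfl)
        exacts [h1.symm, h2.symm]
      exact centralizer_le_normalizer _ h2
    · rw [closure_le]
      intro y hy
      have hyc : ∀ y : G, l * y = y * l → k * y = y * k →
          y ∈ normalizer ((closure ({l, k} : Set G) : Subgroup G) : Set G) := by
        intro y h1 h2
        have h3 : y ∈ centralizer ((closure ({l, k} : Set G) : Subgroup G) : Set G) := by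
          rw [centralizer_closure, mem_centralizer_iff]
          rintro z (rfl | rfl)
          exacts [h1, h2]
        exact centralizer_le_normalizer _ h3
      rcases hy with rfl | rfl | rfl | rfl
      · exact le_normalizer (subset_closure (by simp))
      · exact hyc _ h.lu h.ku
      · exact hyc _ h.lv h.kv
      · exact le_normalizer (subset_closure (by simp))
  have h2 : g * l * g⁻¹ ∈ closure ({l, k} : Set G) :=
    (mem_normalizer_iff.1 (h1 hg) l).1 (subset_closure (by simp))
  rcases six h hgN h.hl h.xl.symm with h3 | h3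
  · exact h3
  · exfalso
    have h4 : closure ({l, k} : Set G) ≤ centralizer ({u, v} : Set G) := by
      rw [closure_le]
      intro y hy
      rw [SetLike.mem_coe, mem_centralizer_iff]
      rcases hy with rfl | rfl
      · rintro z (rfl | rfl)
        exacts [h.lu.symm, h.lv.symm]
      · rintro z (rfl | rfl)
        exacts [h.ku.symm, h.kv.symm]
    have h5 := mem_centralizer_iff.1 (h4 h2)
    exact not_comm_two h.uu h.vv h.uv h.uvn (Or.inl rfl) (Or.inr (Or.inl rfl)) h3
      (fun e => h.uvn (by rw [e])) (h5 u (by simp)).symm (h5 v (by simp)).symm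

/-- `N(⟨x⟩) ≤ N(K)` -/
theorem N_le : normalizer ((zpowers x : Subgroup G) : Set G) ≤
    normalizer ((centralizer ({l, k, u, v} : Set G) : Subgroup G) : Set G) := by
  have key : ∀ g ∈ normalizer ((zpowers x : Subgroup G) : Set G), ∀ c ∈ centralizer ({l, k, u, v} : Set G),
      g * c * g⁻¹ ∈ centralizer ({l, k, u, v} : Set G) := by
    intro g hg c hc
    have h1 : ∀ d ∈ D, d * x = x * d → g * c * g⁻¹ * d = d * (g * c * g⁻¹) := by
      intro d hd hdx
      have h2 := six h (inv_mem hg) hd hdx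
      rw [inv_inv] at h2
      have h3 := mem_cen h h2 hc
      calc g * c * g⁻¹ * d = g * (c * (g⁻¹ * d * g)) * g⁻¹ := by group
        _ = g * ((g⁻¹ * d * g) * c) * g⁻¹ := by rw [h3]
        _ = d * (g * c * g⁻¹) := by group
    exact mem4.2 ⟨h1 l h.hl h.xl.symm, h1 k h.hk h.xk.symm, h1 u h.hu h.xu.symm, h1 v h.hv h.xv.symm⟩
  intro g hg
  rw [mem_normalizer_iff]
  intro c
  constructor
  · exact key g hg c
  · intro hc
    have h1 := key g⁻¹ (inv_mem hg) _ hc
    have h2 : g⁻¹ * (g * c * g⁻¹) * g⁻¹⁻¹ = c := by group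
    rwa [h2] at h1

/-- `K ∩ C(⟨x⟩) = ⟨x⟩` -/
theorem inf_cen : centralizer ({l, k, u, v} : Set G) ⊓ centralizer ((zpowers x : Subgroup G) : Set G) =
    zpowers x := by
  apply le_antisymm
  · rintro c ⟨h1, h2⟩
    exact h.cent c h1 (mem_centralizer_iff.1 h2 x (mem_zpowers x)).symm
  · apply le_inf (zpowers_le_K h)
    rw [zpowers_le, mem_centralizer_iff]
    intro y hy
    obtain ⟨n, rfl⟩ := mem_zpowers_iff.1 hy
    exact ((Commute.refl x).zpow_left n)

theorem card_x : Nat.card ↥(zpowers x) = 13 := by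
  have : Fact (Nat.Prime 13) := ⟨by norm_num⟩
  rw [Nat.card_zpowers]
  exact orderOf_eq_prime h.x13 h.x1

/-- `|N_K(⟨x⟩)| = 78` -/
theorem card_NK [Finite G] : Nat.card ↥(centralizer ({l, k, u, v} : Set G) ⊓
    normalizer ((zpowers x : Subgroup G) : Set G)) = 78 := by
  set K := centralizer ({l, k, u, v} : Set G) with hK
  have hle : zpowers x ≤ K := zpowers_le_K h
  have h1 : Nat.card ↥((zpowers x).subgroupOf K) = 13 := by
    rw [Nat.card_congr (subgroupOfEquivOfLe hle).toEquiv, card_x h]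
  have hC : centralizer (((zpowers x).subgroupOf K : Subgroup ↥K) : Set ↥K) = (zpowers x).subgroupOf K := by
    ext c
    rw [mem_subgroupOf, mem_centralizer_iff]
    constructor
    · intro hc
      have h2 := hc ⟨x, x_mem h⟩ (mem_subgroupOf.2 (mem_zpowers x))
      exact h.cent c c.2 (congrArg Subtype.val h2).symm
    · intro hc z hz
      have hz' := mem_subgroupOf.1 hz
      obtain ⟨n, hn⟩ := mem_zpowers_iff.1 hc
      obtain ⟨m, hm⟩ := mem_zpowers_iff.1 hz'
      apply Subtype.ext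
      show (z : G) * c = c * z
      rw [← hn, ← hm]
      exact (Commute.refl x).zpow_zpow m n
  have hn2 : ¬ 13 ^ 2 ∣ Nat.card ↥K := by
    rw [hK, h.cardK]; norm_num
  obtain ⟨e, n, he, hcard, hn, hne⟩ := Cfsg.Agent.H839.Count.card_normalizer (G := ↥K) (p := 13) (c := 13)
    (by norm_num) h1 hn2 (by rw [hC, h1])
  rw [hK, h.cardK] at hne
  have h3 : Nat.card ↥(K ⊓ normalizer ((zpowers x : Subgroup G) : Set G)) =
      Nat.card ↥(normalizer (((zpowers x).subgroupOf K : Subgroup ↥K) : Set ↥K)) := by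
    rw [← subgroupOf_normalizer_eq hle]
    have h5 : Nat.card ↥((normalizer ((zpowers x : Subgroup G) : Set G)).subgroupOf K) =
        Nat.card ↥(((normalizer ((zpowers x : Subgroup G) : Set G)).subgroupOf K).map K.subtype) :=
      (card_map_of_injective K.subtype_injective).symm
    rw [h5, subgroupOf_map_subtype, inf_comm]
  rw [h3, hcard]
  have he' : e ≤ 12 := Nat.le_of_dvd (by norm_num) he
  have hn' : n % 13 = 1 := hn
  interval_cases e <;> omega

/-- `s` can be chosen in `N(⟨x⟩)` -/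
theorem exists_s [Finite G] : ∃ s' ∈ normalizer ((zpowers x : Subgroup G) : Set G),
    s' * l * s'⁻¹ = u ∧ s' * k * s'⁻¹ = v ∧ s' * u * s'⁻¹ = k ∧ s' * v * s'⁻¹ = l := by
  set K := centralizer ({l, k, u, v} : Set G) with hK
  have hle : zpowers x ≤ K := zpowers_le_K h
  have hsx : s * x * s⁻¹ ∈ K := by
    have key : ∀ {a b : G}, s * a * s⁻¹ = b → x * a = a * x → s * x * s⁻¹ * b = b * (s * x * s⁻¹) := by
      rintro a b rfl hab
      calc s * x * s⁻¹ * (s * a * s⁻¹) = s * (x * a) * s⁻¹ := by group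
        _ = s * (a * x) * s⁻¹ := by rw [hab]
        _ = s * a * s⁻¹ * (s * x * s⁻¹) := by group
    exact mem4.2 ⟨key h.s4 h.xv, key h.s3 h.xu, key h.s1 h.xl, key h.s2 h.xk⟩
  have hle' : zpowers (s * x * s⁻¹) ≤ K := by rwa [zpowers_le]
  have h1 : Nat.card ↥((zpowers x).subgroupOf K) = 13 := by
    rw [Nat.card_congr (subgroupOfEquivOfLe hle).toEquiv, card_x h]
  have h2 : Nat.card ↥((zpowers (s * x * s⁻¹)).subgroupOf K) = 13 := by
    rw [Nat.card_congr (subgroupOfEquivOfLe hle').toEquiv, Nat.card_zpowers,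
      show s * x * s⁻¹ = MulAut.conj s x from rfl, MulEquiv.orderOf_eq, ← Nat.card_zpowers, card_x h]
  have hn2 : ¬ 13 ^ 2 ∣ Nat.card ↥K := by
    rw [hK, h.cardK]; norm_num
  obtain ⟨c, hc⟩ := exists_conj_of_card_prime (by norm_num) hn2 _ _ h2 h1
  have h4 : (c : G) * (s * x * s⁻¹) * (c : G)⁻¹ ∈ zpowers x := by
    have h5 : (⟨s * x * s⁻¹, hsx⟩ : ↥K) ∈ (zpowers (s * x * s⁻¹)).subgroupOf K :=
      mem_subgroupOf.2 (mem_zpowers _)
    have h6 : MulAut.conj c ⟨s * x * s⁻¹, hsx⟩ ∈ (zpowers x).subgroupOf K := by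
      rw [← hc]
      exact ⟨_, h5, rfl⟩
    exact mem_subgroupOf.1 h6
  have hN : (c : G) * s ∈ normalizer ((zpowers x : Subgroup G) : Set G) := by
    have h7 : (zpowers x).map (MulAut.conj ((c : G) * s)).toMonoidHom ≤ zpowers x := by
      rw [MonoidHom.map_zpowers, zpowers_le]
      have : (MulAut.conj ((c : G) * s)).toMonoidHom x = (c : G) * (s * x * s⁻¹) * (c : G)⁻¹ := by
        show (c : G) * s * x * ((c : G) * s)⁻¹ = _
        group
      rw [this]
      exact h4
    rw [mem_normalizer_iff_map_conj_eq]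
    apply eq_of_le_of_card_ge h7
    rw [card_map_of_injective (MulAut.conj _).injective]
  obtain ⟨k1, k2, k3, k4⟩ := mem4.1 c.2
  have key : ∀ {a b : G}, s * a * s⁻¹ = b → (c : G) * b = b * c → (c : G) * s * a * ((c : G) * s)⁻¹ = b := by
    rintro a b rfl hab
    calc (c : G) * s * a * ((c : G) * s)⁻¹ = (c * (s * a * s⁻¹)) * (c : G)⁻¹ := by group
      _ = ((s * a * s⁻¹) * c) * (c : G)⁻¹ := by rw [hab]
      _ = s * a * s⁻¹ := by group
  exact ⟨(c : G) * s, hN, key h.s1 k3, key h.s2 k4, key h.s3 k2, key h.s4 k1⟩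

/-- the index -/
theorem index_N1 [Finite G] : (((centralizer ({l, k, u, v} : Set G) ⊓
    normalizer ((zpowers x : Subgroup G) : Set G)) ⊔ closure ({l, u, v, k} : Set G)).subgroupOf
      (normalizer ((zpowers x : Subgroup G) : Set G))).index = 2 := by
  obtain ⟨s', hs, a1, a2, a3, a4⟩ := exists_s h
  rw [index_eq_two_iff]
  refine ⟨⟨s', hs⟩, ?_⟩
  rintro ⟨b, hb⟩
  rw [mem_subgroupOf, mem_subgroupOf]
  have e1 : b * s' * l * (b * s')⁻¹ = b * u * b⁻¹ := by
    rw [← a1]; group
  have e2 : ∀ g ∈ normalizer ((zpowers x : Subgroup G) : Set G),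
      (g ∈ (centralizer ({l, k, u, v} : Set G) ⊓ normalizer ((zpowers x : Subgroup G) : Set G)) ⊔
        closure ({l, u, v, k} : Set G) ↔ Tri l k (g * l * g⁻¹)) :=
    fun g hg => ⟨fun h1 => tri_of_mem_N1 h h1, fun h1 => mem_N1 h hg h1⟩
  show Xor (b * s' ∈ _) (b ∈ _)
  rw [e2 _ (mul_mem hb hs), e2 _ hb, e1]
  rcases six h hb h.hl h.xl.symm with h1 | h1
  · right
    exact ⟨h1, fun h2 => tri_disj h h2 (pres h hb h1).2.1⟩
  · left
    refine ⟨?_, fun h2 => tri_disj h h2 h1⟩
    -- `s'⁻¹ b` maps `l` to the first triple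
    have h3 : Tri l k (s'⁻¹ * b * l * (s'⁻¹ * b)⁻¹) := by
      have h4 : ∀ y, Tri u v y → Tri l k (s'⁻¹ * y * s') := by
        have b1 : s'⁻¹ * u * s' = l := by rw [← a1]; group
        have b2 : s'⁻¹ * v * s' = k := by rw [← a2]; group
        rintro y (rfl | rfl | rfl)
        · exact Or.inl b1
        · exact Or.inr (Or.inl b2)
        · right; right
          rw [← b1, ← b2]; group
      have h5 := h4 _ h1
      have h6 : s'⁻¹ * (b * l * b⁻¹) * s' = s'⁻¹ * b * l * (s'⁻¹ * b)⁻¹ := by group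
      rwa [h6] at h5
    have h4 := (pres h (mul_mem (inv_mem hs) hb) h3).2.1
    have h5 : b * u * b⁻¹ = s' * (s'⁻¹ * b * u * (s'⁻¹ * b)⁻¹) * s'⁻¹ := by group
    rw [h5]
    rcases h4 with e | e | e
    · rw [e, a3]
      exact Or.inr (Or.inl rfl)
    · rw [e, a4]
      exact Or.inl rfl
    · rw [e]
      right; right
      have : s' * (u * v * u) * s'⁻¹ = s' * u * s'⁻¹ * (s' * v * s'⁻¹) * (s' * u * s'⁻¹) := by group
      rw [this, a3, a4, h.lk]

/-- the facts for a conjugate of `x` under `K` -/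
theorem conj_facts {c : G} (hc : c ∈ centralizer ({l, k, u, v} : Set G)) :
    Facts G D l k u v (c * x * c⁻¹) s := by
  have hx : c * x * c⁻¹ ∈ centralizer ({l, k, u, v} : Set G) := mul_mem (mul_mem hc (x_mem h)) (inv_mem hc)
  obtain ⟨m1, m2, m3, m4⟩ := mem4.1 hx
  exact
    { h with
      x13 := by
        have : (c * x * c⁻¹) ^ 13 = c * x ^ 13 * c⁻¹ := conj_pow
        rw [this, h.x13]; group
      x1 := fun e => h.x1 (by
        have : x = c⁻¹ * (c * x * c⁻¹) * c := by group
        rw [this, e]; group)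
      xl := m1
      xk := m2
      xu := m3
      xv := m4
      fix := by
        intro d hd hdx
        have h1 : c⁻¹ * d * c * x = x * (c⁻¹ * d * c) := by
          calc c⁻¹ * d * c * x = c⁻¹ * (d * (c * x * c⁻¹)) * c := by group
            _ = c⁻¹ * (c * x * c⁻¹ * d) * c := by rw [hdx]
            _ = x * (c⁻¹ * d * c) := by group
        have h0 := h.conj c⁻¹ d hd
        rw [inv_inv] at h0
        have h2 := h.fix _ h0 h1
        have h3 : d = c * (c⁻¹ * d * c) * c⁻¹ := by group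
        have h4 : ∀ y : G, (Tri l k y ∨ Tri u v y) → c * y * c⁻¹ = y := by
          intro y hy
          rw [mem_cen h hy hc, mul_inv_cancel_right]
        rcases h2 with e | e | e | e | e | e <;> rw [e] at h3
        · left; rw [h3]; exact h4 _ (Or.inl (Or.inl rfl))
        · right; left; rw [h3]; exact h4 _ (Or.inl (Or.inr (Or.inl rfl)))
        · right; right; left; rw [h3]; exact h4 _ (Or.inl (Or.inr (Or.inr rfl)))
        · right; right; right; left; rw [h3]; exact h4 _ (Or.inr (Or.inl rfl))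
        · right; right; right; right; left; rw [h3]; exact h4 _ (Or.inr (Or.inr (Or.inl rfl)))
        · right; right; right; right; right; rw [h3]; exact h4 _ (Or.inr (Or.inr (Or.inr rfl)))
      cent := by
        intro y hy hyx
        have h1 : c⁻¹ * y * c * x = x * (c⁻¹ * y * c) := by
          calc c⁻¹ * y * c * x = c⁻¹ * (y * (c * x * c⁻¹)) * c := by group
            _ = c⁻¹ * (c * x * c⁻¹ * y) * c := by rw [hyx]
            _ = x * (c⁻¹ * y * c) := by group
        obtain ⟨n, hn⟩ := mem_zpowers_iff.1 (h.cent _ (mul_mem (mul_mem (inv_mem hc) hy) hc) h1)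
        rw [mem_zpowers_iff]
        refine ⟨n, ?_⟩
        rw [conj_zpow, hn]; group }

/-- the conclusion for an arbitrary subgroup of order 13 of `K` -/
theorem concl_K [Finite G] (B : Subgroup G) (hB : B ≤ centralizer ({l, k, u, v} : Set G)) (hc : Nat.card B = 13) :
    normalizer (B : Set G) ≤ normalizer ((centralizer ({l, k, u, v} : Set G) : Subgroup G) : Set G) ∧
    Nat.card ↥(centralizer ({l, k, u, v} : Set G) ⊓ normalizer (B : Set G)) = 78 ∧
    centralizer ({l, k, u, v} : Set G) ⊓ centralizer (B : Set G) = B ∧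
    (((centralizer ({l, k, u, v} : Set G) ⊓ normalizer (B : Set G)) ⊔ closure ({l, u, v, k} : Set G)).subgroupOf
      (normalizer (B : Set G))).index = 2 := by
  set K := centralizer ({l, k, u, v} : Set G) with hK
  have h1 : Nat.card ↥((zpowers x).subgroupOf K) = 13 := by
    rw [Nat.card_congr (subgroupOfEquivOfLe (zpowers_le_K h)).toEquiv, card_x h]
  have h2 : Nat.card ↥(B.subgroupOf K) = 13 := by
    rw [Nat.card_congr (subgroupOfEquivOfLe hB).toEquiv, hc]
  have hn2 : ¬ 13 ^ 2 ∣ Nat.card ↥K := by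
    rw [hK, h.cardK]; norm_num
  obtain ⟨c, hcc⟩ := exists_conj_of_card_prime (by norm_num) hn2 _ _ h1 h2
  have h4 : (c : G) * x * (c : G)⁻¹ ∈ B := by
    have h5 : (⟨x, x_mem h⟩ : ↥K) ∈ (zpowers x).subgroupOf K := mem_subgroupOf.2 (mem_zpowers _)
    have h6 : MulAut.conj c ⟨x, x_mem h⟩ ∈ B.subgroupOf K := by
      rw [← hcc]
      exact ⟨_, h5, rfl⟩
    exact mem_subgroupOf.1 h6
  have h' := conj_facts h c.2
  have hBeq : B = zpowers ((c : G) * x * (c : G)⁻¹) := by
    symm
    apply eq_of_le_of_card_ge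
    · rwa [zpowers_le]
    · rw [hc, card_x h']
  rw [hBeq]
  exact ⟨N_le h', card_NK h', inf_cen h', index_N1 h'⟩

end

/-- **the conclusion of S5518** -/
theorem concl {G : Type v} [Group G] [Finite G] {D : Set G} {l k u v x s : G} (h : Facts G D l k u v x s) :
    (∀ X Y : Subgroup G, Nat.card X = 13 → Nat.card Y = 13 → ∃ g : G, X.map (MulAut.conj g).toMonoidHom = Y) ∧
    ∃ (a b c d : G) (T K : Subgroup G), (∀ x ∈ [a, b, c, d], x ∈ D) ∧ ¬ Commute a d ∧ ¬ Commute b c ∧
      Commute a b ∧ Commute a c ∧ Commute d b ∧ Commute d c ∧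
      T = Subgroup.closure ({a, b, c, d} : Set G) ∧ K = Subgroup.centralizer (T : Set G) ∧
      Nonempty (↥K ≃* ↥(Cfsg.Lie.chevG2.group (ZMod 3))) ∧
      ∀ B : Subgroup G, B ≤ K → Nat.card B = 13 →
        Subgroup.normalizer ((B : Subgroup G) : Set G) ≤ Subgroup.normalizer ((K : Subgroup G) : Set G) ∧
        Nat.card ↥(K ⊓ Subgroup.normalizer ((B : Subgroup G) : Set G)) = 78 ∧
        K ⊓ Subgroup.centralizer ((B : Subgroup G) : Set G) = B ∧
        (((K ⊓ Subgroup.normalizer ((B : Subgroup G) : Set G)) ⊔ T).subgroupOf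
          (Subgroup.normalizer ((B : Subgroup G) : Set G))).index = 2 := by
  constructor
  · refine fun X Y => exists_conj_of_card_prime (by norm_num) ?_ X Y
    rw [h.card]; norm_num
  · refine ⟨l, u, v, k, closure ({l, u, v, k} : Set G), centralizer ({l, k, u, v} : Set G), ?_, h.lkn, h.uvn,
      h.lu, h.lv, h.ku, h.kv, rfl, ?_, h.iso, concl_K h⟩
    · intro x hx
      simp only [List.mem_cons, List.not_mem_nil, or_false] at hx
      rcases hx with rfl | rfl | rfl | rfl
      exacts [h.hl, h.hu, h.hv, h.hk]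
    · rw [centralizer_closure]
      congr 1
      ext y
      simp only [Set.mem_insert_iff, Set.mem_singleton_iff]
      tauto

end Cfsg.Agent.H845.T13Concl
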