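import Cfsg.Agent.H792.SpHeis
import Cfsg.Agent.H49.JFourEleven

/-!
# `J4` at `11` (helper845)

`x`, `y` generate a Sylow `11`-subgroup `11^{1+2}` (as in `H49.JFourEleven`), `z = [y, x]`; `c` is an element of order 4
of the normal extraspecial group `2^{1+12}` of the centraliser of the involution `t` which commutes with `z`; it
normalises `⟨x, y⟩` and acts irreducibly on `⟨x, y⟩ / ⟨z⟩` (`c ^ 2 = t` inverts `x` and `y`).

`noT_j4_eleven`, `full_or_nfus_j4_eleven`.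
-/

set_option autoImplicit false
set_option maxRecDepth 20000

namespace Cfsg.Agent.H845.JFourEleven

open Cfsg.Agent.Lib.F2MatGroup Cfsg.Agent.J4.Rep112 Cfsg.Agent.J4.Final Cfsg.Agent.H792.SpCube Subgroup

/-- continuation of the straight line program of `H49.JFourEleven` -/
def ws2 : List (List ℕ) :=
  [[0, 1, 2, 3], [18, 15, 16, 18, 15, 16, 15, 17], [17, 16, 18, 16, 19, 18, 16, 19], [9, 0, 9, 1], [0, 0], [0, 0, 1],
  [4, 0], [21, 23, 24, 21, 23, 21, 23, 24, 21, 22, 24, 21, 23], [23, 22, 25, 24, 22, 25, 23, 22, 23, 22, 25, 23, 22],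
  [15, 0, 15, 1], [0, 0], [0, 0], [26, 27, 26, 27, 26, 28, 29, 26, 27, 29, 26, 28, 26, 27], [29, 27, 28, 27, 30, 29,
  27, 30, 28, 27, 29, 27, 29, 27], [20, 0, 20, 1], [0, 0], [0, 0, 1], [4, 0], [0, 11, 6], [0, 0], [0, 0], [0, 0], [0,
  0], [0, 0, 4], [0, 23], [0, 0], [0, 0, 1], [0, 0, 2], [0, 34], [1, 32, 0], [2, 32, 1]]

/-- the relations -/
def es : List (List ℕ × List ℕ) :=
  [([34, 34, 34, 34, 34, 34, 34, 34, 34, 34, 34], []), ([33, 33, 33, 33, 33, 33, 33, 33, 33, 33, 33], []), ([30, 30,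
  30, 30, 30, 30, 30, 30, 30, 30, 30], []), ([34, 30], [30, 34]), ([33, 30], [30, 33]), ([33, 34], [34, 33, 30]), ([3,
  2], []), ([3, 34, 2], [1]), ([3, 33, 2], [0]), ([1], [34, 34, 34, 34, 34, 34, 33, 33, 33, 33, 33, 33, 33, 30, 30,
  30, 30, 30, 30, 30, 30, 30, 30]), ([0], [34, 33, 33, 33, 33, 33, 30, 30, 30, 30, 30, 30, 30, 30])]

/-- the inequalities -/
def ns : List (List ℕ × List ℕ) :=
  [([30], []), ([1, 34], [34, 1]), ([0, 33], [33, 0]), ([1, 0, 34, 33], [34, 33, 1, 0]), ([1, 1, 0, 34, 34, 33], [34,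
  34, 33, 1, 1, 0]), ([1, 1, 1, 0, 34, 34, 34, 33], [34, 34, 34, 33, 1, 1, 1, 0]), ([1, 1, 1, 1, 0, 34, 34, 34, 34,
  33], [34, 34, 34, 34, 33, 1, 1, 1, 1, 0]), ([1, 1, 1, 1, 1, 0, 34, 34, 34, 34, 34, 33], [34, 34, 34, 34, 34, 33, 1,
  1, 1, 1, 1, 0]), ([1, 1, 1, 1, 1, 1, 0, 34, 34, 34, 34, 34, 34, 33], [34, 34, 34, 34, 34, 34, 33, 1, 1, 1, 1, 1, 1,
  0]), ([1, 1, 1, 1, 1, 1, 1, 0, 34, 34, 34, 34, 34, 34, 34, 33], [34, 34, 34, 34, 34, 34, 34, 33, 1, 1, 1, 1, 1, 1,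
  1, 0]), ([1, 1, 1, 1, 1, 1, 1, 1, 0, 34, 34, 34, 34, 34, 34, 34, 34, 33], [34, 34, 34, 34, 34, 34, 34, 34, 33, 1, 1,
  1, 1, 1, 1, 1, 1, 0]), ([1, 1, 1, 1, 1, 1, 1, 1, 1, 0, 34, 34, 34, 34, 34, 34, 34, 34, 34, 33], [34, 34, 34, 34, 34,
  34, 34, 34, 34, 33, 1, 1, 1, 1, 1, 1, 1, 1, 1, 0]), ([1, 1, 1, 1, 1, 1, 1, 1, 1, 1, 0, 34, 34, 34, 34, 34, 34, 34,
  34, 34, 34, 33], [34, 34, 34, 34, 34, 34, 34, 34, 34, 34, 33, 1, 1, 1, 1, 1, 1, 1, 1, 1, 1, 0])]

theorem chk : check 112 codes (Cfsg.Agent.H49.JFourEleven.ws ++ ws2) es ns = true := by decide +kernel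

theorem facts : (∀ p ∈ es, evG (runG (Cfsg.Agent.H49.JFourEleven.ws ++ ws2) gens) p.1 =
      evG (runG (Cfsg.Agent.H49.JFourEleven.ws ++ ws2) gens) p.2) ∧
    (∀ p ∈ ns, evG (runG (Cfsg.Agent.H49.JFourEleven.ws ++ ws2) gens) p.1 ≠
      evG (runG (Cfsg.Agent.H49.JFourEleven.ws ++ ws2) gens) p.2) := by
  have h := check_sound (by norm_num) codes_gens chk
  rw [runG_map] at h
  simp only [evG_map] at h
  exact ⟨fun p hp => rho_injective (h.1 p hp), fun p hp h0 => h.2 p hp (congrArg rho h0)⟩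

/-- the elements and their relations -/
theorem exists_elements : ∃ x y z c : Cfsg.Spor.J4, Heis 11 x y z ∧
    c * x * c⁻¹ = x ^ 6 * y ^ 7 * z ^ 10 ∧ c * y * c⁻¹ = x * y ^ 5 * z ^ 8 ∧
    c * x * c⁻¹ * x ≠ x * (c * x * c⁻¹) ∧
    ∀ i < 11, c * (x ^ i * y) * c⁻¹ * (x ^ i * y) ≠ (x ^ i * y) * (c * (x ^ i * y) * c⁻¹) := by
  obtain ⟨he, hn⟩ := facts
  generalize runG (Cfsg.Agent.H49.JFourEleven.ws ++ ws2) gens = L at he hn
  simp only [es, ns, List.forall_mem_cons, List.not_mem_nil, false_imp_iff, implies_true, and_true, evG_cons, evG_nil,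
    mul_one] at he hn
  obtain ⟨e1, e2, e3, e4, e5, e6, e7, e8, e9, e10, e11⟩ := he
  obtain ⟨n0, nx, m0, m1, m2, m3, m4, m5, m6, m7, m8, m9, m10⟩ := hn
  generalize getG L 34 = x at *
  generalize getG L 33 = y at *
  generalize getG L 30 = z at *
  generalize getG L 3 = c at *
  generalize getG L 2 = ci at *
  generalize getG L 1 = u at *
  generalize getG L 0 = v at *
  obtain rfl : ci = c⁻¹ := eq_inv_of_mul_eq_one_right e7
  have hu : c * x * c⁻¹ = u := by rw [← e8]; simp only [mul_assoc]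
  have hv : c * y * c⁻¹ = v := by rw [← e9]; simp only [mul_assoc]
  have hw : ∀ i : ℕ, c * (x ^ i * y) * c⁻¹ = u ^ i * v := by
    intro i
    rw [← hu, ← hv, conj_pow]
    group
  refine ⟨x, y, z, c, ⟨?_, ?_, ?_, e4, e5, ?_, n0⟩, ?_, ?_, ?_, ?_⟩
  · rw [← e1]; simp only [pow_succ', pow_zero, mul_one]
  · rw [← e2]; simp only [pow_succ', pow_zero, mul_one]
  · rw [← e3]; simp only [pow_succ', pow_zero, mul_one]
  · rw [e6, mul_assoc]
  · rw [hu, e10]; simp only [pow_succ', pow_zero, mul_one, mul_assoc]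
  · rw [hv, e11]; simp only [pow_succ', pow_zero, mul_one, mul_assoc]
  · rw [hu]; exact nx
  · intro i hi
    rw [hw]
    interval_cases i
    · simpa only [pow_succ', pow_zero, mul_one, one_mul, mul_assoc] using m0
    · simpa only [pow_succ', pow_zero, mul_one, one_mul, mul_assoc] using m1
    · simpa only [pow_succ', pow_zero, mul_one, one_mul, mul_assoc] using m2
    · simpa only [pow_succ', pow_zero, mul_one, one_mul, mul_assoc] using m3
    · simpa only [pow_succ', pow_zero, mul_one, one_mul, mul_assoc] using m4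
    · simpa only [pow_succ', pow_zero, mul_one, one_mul, mul_assoc] using m5
    · simpa only [pow_succ', pow_zero, mul_one, one_mul, mul_assoc] using m6
    · simpa only [pow_succ', pow_zero, mul_one, one_mul, mul_assoc] using m7
    · simpa only [pow_succ', pow_zero, mul_one, one_mul, mul_assoc] using m8
    · simpa only [pow_succ', pow_zero, mul_one, one_mul, mul_assoc] using m9
    · simpa only [pow_succ', pow_zero, mul_one, one_mul, mul_assoc] using m10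

theorem noT : NoT 11 Cfsg.Spor.J4 := by
  have hfin := Cfsg.Agent.H49.JFourEleven.finite_J4
  have : Fact (Nat.Prime 11) := ⟨by norm_num⟩
  obtain ⟨x, y, z, c, h, h1, h2, h3, h4⟩ := exists_elements
  have hx : x ∈ (zpowers y ⊔ (zpowers x ⊔ zpowers z) : Subgroup Cfsg.Spor.J4) :=
    (le_sup_right : zpowers x ⊔ zpowers z ≤ zpowers y ⊔ (zpowers x ⊔ zpowers z))
      ((le_sup_left : zpowers x ≤ zpowers x ⊔ zpowers z) (mem_zpowers x))
  have hz : z ∈ (zpowers y ⊔ (zpowers x ⊔ zpowers z) : Subgroup Cfsg.Spor.J4) :=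
    (le_sup_right : zpowers x ⊔ zpowers z ≤ zpowers y ⊔ (zpowers x ⊔ zpowers z))
      ((le_sup_right : zpowers z ≤ zpowers x ⊔ zpowers z) (mem_zpowers z))
  have hy : y ∈ (zpowers y ⊔ (zpowers x ⊔ zpowers z) : Subgroup Cfsg.Spor.J4) :=
    (le_sup_left : zpowers y ≤ zpowers y ⊔ (zpowers x ⊔ zpowers z)) (mem_zpowers y)
  refine noT_of_heis Cfsg.Agent.H49.JFourEleven.card_J4' h (c := c) ?_ ?_ h3 h4
  · rw [h1]
    exact mul_mem (mul_mem (pow_mem hx 6) (pow_mem hy 7)) (pow_mem hz 10)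
  · rw [h2]
    exact mul_mem (mul_mem hx (pow_mem hy 5)) (pow_mem hz 8)

theorem full_or_nfus : Cfsg.Agent.H749.FullP 11 Cfsg.Spor.J4 ∨ Cfsg.Agent.H794.NFus 11 Cfsg.Spor.J4 := by
  have hfin := Cfsg.Agent.H49.JFourEleven.finite_J4
  have : Fact (Nat.Prime 11) := ⟨by norm_num⟩
  obtain ⟨x, y, z, c, h, -⟩ := exists_elements
  exact full_or_nfus_of_heis Cfsg.Agent.H49.JFourEleven.card_J4' h noT

theorem noT_j4_eleven {G : Type*} [Group G] [Finite G] (h : Cfsg.Spor.IsoJ4 G) : NoT 11 G := by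
  have hfin := Cfsg.Agent.H49.JFourEleven.finite_J4
  have : Fact (Nat.Prime 11) := ⟨by norm_num⟩
  obtain ⟨e⟩ := h
  exact noT.of_mulEquiv e.symm

theorem full_or_nfus_j4_eleven {G : Type*} [Group G] [Finite G] (h : Cfsg.Spor.IsoJ4 G) :
    Cfsg.Agent.H749.FullP 11 G ∨ Cfsg.Agent.H794.NFus 11 G := by
  have hfin := Cfsg.Agent.H49.JFourEleven.finite_J4
  have : Fact (Nat.Prime 11) := ⟨by norm_num⟩
  obtain ⟨e⟩ := h
  exact or_of_mulEquiv e.symm full_or_nfus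

end Cfsg.Agent.H845.JFourEleven
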