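import Cfsg.Agent.S0165

/-!
# Divisibility of multiplicities for characters of defect zero (helper845)

`exists_mult` : `ρ` irreducible of degree `n` divisible by the `p`-part of `|G|`, `x` of order `p`, `w` of order `q`
prime to `p` commuting with `x`: the fixed space of `w` has dimension `p m`, so `∑ χ(w ^ k) = q p m` and `p m ≤ n`.
-/

set_option autoImplicit false

namespace Cfsg.Agent.H845.DefZero

open Subgroup

theorem average {G : Type*} [Group G] [Finite G] {V : Type*} [AddCommGroup V] [Module ℂ V] [FiniteDimensional ℂ V]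
    (ρ : Representation ℂ G V) (H : Subgroup G) : ∃ m : ℕ, m ≤ Module.finrank ℂ V ∧
      ∑ᶠ g ∈ (H : Set G), ρ.character g = ((Nat.card H * m : ℕ) : ℂ) := by
  classical
  have := Fintype.ofFinite H
  have hc : (Nat.card H : ℂ) ≠ 0 := Nat.cast_ne_zero.2 Nat.card_pos.ne'
  let _ : Invertible (Nat.card H : ℂ) := invertibleOfNonzero hc
  let σ : Representation ℂ H V := ρ.comp H.subtype
  have h1 := Representation.card_inv_mul_sum_char_eq_finrank (ρ := σ)
  refine ⟨Module.finrank ℂ (Representation.invariants σ), Submodule.finrank_le _, ?_⟩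
  rw [Nat.cast_mul, ← h1, mul_inv_cancel_left₀ hc, finsum_mem_eq_finite_toFinset_sum _ (Set.toFinite _)]
  refine Finset.sum_bij' (fun g hg => (⟨g, by simpa using hg⟩ : H)) (fun h _ => (h : G)) ?_ ?_ ?_ ?_ ?_
  · intro g hg
    exact Finset.mem_univ _
  · intro h _
    simp
  · intro g hg
    rfl
  · intro h _
    rfl
  · intro g hg
    rfl

theorem sum_zpowers {G : Type*} [Group G] [Finite G] {M : Type*} [AddCommMonoid M] (w : G) (f : G → M) :
    ∑ᶠ g ∈ ((zpowers w : Subgroup G) : Set G), f g = ∑ k ∈ Finset.range (orderOf w), f (w ^ k) := by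
  classical
  rw [finsum_mem_eq_finite_toFinset_sum _ (Set.toFinite _)]
  symm
  refine Finset.sum_bij (fun k _ => w ^ k) ?_ ?_ ?_ ?_
  · intro k _
    simp only [Set.Finite.mem_toFinset, SetLike.mem_coe]
    exact pow_mem (mem_zpowers w) k
  · intro a ha b hb h
    exact (pow_injOn_Iio_orderOf) (by simpa using ha) (by simpa using hb) h
  · intro g hg
    simp only [Set.Finite.mem_toFinset, SetLike.mem_coe] at hg
    obtain ⟨k, hk, hk2⟩ := (isOfFinOrder_of_finite w).mem_zpowers_iff_mem_range_orderOf.1 hg |> fun h => by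
      simpa using h
    exact ⟨k, by simpa using hk, hk2⟩
  · intro k _
    rfl

/-- **Multiplicities for characters of defect zero.** -/
theorem exists_mult {G : Type*} [Group G] [Finite G] {n : ℕ} (ρ : Representation ℂ G (Fin n → ℂ)) [ρ.IsIrreducible]
    {p a : ℕ} (hp : p.Prime) (hn : p ^ a ∣ Nat.card G) (hn' : ¬ p ^ (a + 1) ∣ Nat.card G) (hdeg : p ^ a ∣ n) {x w : G}
    (hx : orderOf x = p) {q : ℕ} (hqp : Nat.Coprime p q) (hw : orderOf w = q) (hxw : x * w = w * x) :
    ∃ m : ℕ, p * m ≤ n ∧ ∑ k ∈ Finset.range q, ρ.character (w ^ k) = ((q * (p * m) : ℕ) : ℂ) := by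
  classical
  have hq0 : 0 < q := hw ▸ orderOf_pos w
  have hord : orderOf (x * w) = p * q := by
    rw [Commute.orderOf_mul_eq_mul_orderOf_of_coprime hxw (by rw [hx, hw]; exact hqp), hx, hw]
  have hfin : Module.finrank ℂ (Fin n → ℂ) = n := by simp
  have hdeg' : p ^ a ∣ Module.finrank ℂ (Fin n → ℂ) := by rw [hfin]; exact hdeg
  obtain ⟨m', hm', h1⟩ := average ρ (zpowers w)
  obtain ⟨m, -, h2⟩ := average ρ (zpowers (x * w))
  rw [Nat.card_zpowers, hw] at h1
  rw [Nat.card_zpowers, hord] at h2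
  have hcom : Commute x w := hxw
  -- the elements outside `⟨w⟩` are `p`-singular
  have hle : zpowers w ≤ zpowers (x * w) := by
    have h3 : zpowers (w ^ p) = zpowers w := by
      refine eq_of_le_of_card_ge ?_ ?_
      · rw [zpowers_le]
        exact pow_mem (mem_zpowers w) p
      · rw [Nat.card_zpowers, Nat.card_zpowers, Nat.Coprime.orderOf_pow (by rw [hw]; exact hqp.symm)]
    rw [← h3, zpowers_le]
    have h4 : (x * w) ^ p = w ^ p := by
      rw [hcom.mul_pow, ← hx, pow_orderOf_eq_one, one_mul]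
    rw [← h4]
    exact pow_mem (mem_zpowers _) p
  have hsing : ∀ g ∈ zpowers (x * w), g ∉ zpowers w → ρ.character g = 0 := by
    intro g hg hgw
    refine Cfsg.Agent.S0165.result ρ p a hp hn hn' hdeg' g ?_
    by_contra hpg
    apply hgw
    obtain ⟨i, rfl⟩ := (isOfFinOrder_of_finite (x * w)).mem_powers_iff_mem_zpowers.2 hg
    change (x * w) ^ i ∈ zpowers w
    have h3 : orderOf ((x * w) ^ i) ∣ p * q := by
      rw [← hord]
      exact orderOf_pow_dvd i
    have h4 : orderOf ((x * w) ^ i) ∣ q :=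
      (((Nat.Prime.coprime_iff_not_dvd hp).2 hpg).symm).dvd_of_dvd_mul_left h3
    have h5 : (x * w) ^ (i * q) = 1 := by
      rw [pow_mul]
      exact orderOf_dvd_iff_pow_eq_one.1 h4
    have h6 : x ^ (i * q) = 1 := by
      rw [hcom.mul_pow] at h5
      have h7 : w ^ (i * q) = 1 := by rw [mul_comm, pow_mul, ← hw, pow_orderOf_eq_one, one_pow]
      rwa [h7, mul_one] at h5
    have h7 : p ∣ i * q := hx ▸ orderOf_dvd_of_pow_eq_one h6
    have h8 : p ∣ i := hqp.dvd_of_dvd_mul_right h7
    obtain ⟨j, rfl⟩ := h8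
    rw [hcom.mul_pow, pow_mul x, ← hx, pow_orderOf_eq_one, one_pow, one_mul, hx]
    exact pow_mem (mem_zpowers w) _
  have heq : ∑ᶠ g ∈ ((zpowers (x * w) : Subgroup G) : Set G), ρ.character g =
      ∑ᶠ g ∈ ((zpowers w : Subgroup G) : Set G), ρ.character g := by
    rw [finsum_mem_def, finsum_mem_def]
    congr 1
    ext g
    by_cases hg : g ∈ zpowers w
    · rw [Set.indicator_of_mem (show g ∈ ((zpowers w : Subgroup G) : Set G) from hg),
        Set.indicator_of_mem (show g ∈ ((zpowers (x * w) : Subgroup G) : Set G) from hle hg)]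
    · rw [Set.indicator_of_notMem (show g ∉ ((zpowers w : Subgroup G) : Set G) from hg)]
      by_cases hg' : g ∈ zpowers (x * w)
      · rw [Set.indicator_of_mem (show g ∈ ((zpowers (x * w) : Subgroup G) : Set G) from hg')]
        exact hsing g hg' hg
      · rw [Set.indicator_of_notMem (show g ∉ ((zpowers (x * w) : Subgroup G) : Set G) from hg')]
  rw [heq, h1, Nat.cast_inj] at h2
  have hm : m' = p * m := by
    have h3 : q * m' = q * (p * m) := by rw [h2]; ring
    exact Nat.eq_of_mul_eq_mul_left hq0 h3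
  refine ⟨m, ?_, ?_⟩
  · rw [← hm, ← hfin]
    exact hm'
  · rw [← hm, ← h1, sum_zpowers, hw]

end Cfsg.Agent.H845.DefZero
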