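import Cfsg.Agent.H845.LiftIrr
import Cfsg.Agent.H845.DefZero
import Cfsg.Agent.HN.Center
import Cfsg.Agent.CpAutHN.Pairs
import Cfsg.Agent.KFacts.HN.Classes

/-!
# Traces of elements of HN commuting with an element of order 19 (helper845)

The 133-dimensional representation modulo 31 lifts to an irreducible complex representation; `133 = 7 * 19` is
divisible by the 19-part of the order.
-/

set_option autoImplicit false

namespace Cfsg.Agent.H845.HNMult

open Cfsg.Agent.Lib.PackMat Cfsg.Agent.Lib.PackMatGroup Cfsg.Agent.HN.RepData Cfsg.Agent.HN.Rep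
open Cfsg.Agent.CpAutHN.Tr (tr)

theorem sc_rho : LiftIrr.SC (fun g : Cfsg.Spor.HN =>
    ((rho g : Matrix.GeneralLinearGroup (Fin 133) (ZMod 31)) : Matrix (Fin 133) (Fin 133) (ZMod 31))) := by
  intro X hX
  refine Cfsg.Agent.HN.Center.scalar X fun w => ?_
  rw [← rho_word]
  exact (hX (evG gens w)).symm

theorem prime31 : Nat.Prime 31 := by norm_num

theorem exists_rep : ∃ ρ : Representation ℂ Cfsg.Spor.HN (Fin 133 → ℂ), ρ.IsIrreducible ∧
    ∀ (s : Multiset Cfsg.Spor.HN) (N : ℤ), (s.map fun g => ρ.character g).sum = (N : ℂ) →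
      (s.map tr).sum = (N : ZMod 31) := by
  have : Fact (Nat.Prime 31) := ⟨prime31⟩
  have hfin : Finite Cfsg.Spor.HN := Nat.finite_of_card_ne_zero (by
    rw [Cfsg.Agent.KFacts.HN.Classes.card_HN]; norm_num)
  have hcop : ¬ 31 ∣ Nat.card Cfsg.Spor.HN := by
    rw [Cfsg.Agent.KFacts.HN.Classes.card_HN]; norm_num
  exact LiftIrr.exists_irr_lift (p := 31) (F := ZMod 31) hcop (by norm_num : 0 < 133) rho sc_rho

/-- **Traces of elements commuting with an element of order 19** -/
theorem exists_mult {x w : Cfsg.Spor.HN} (hx : orderOf x = 19) {q : ℕ} (hq : Nat.Coprime 19 q) (hw : orderOf w = q)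
    (hxw : x * w = w * x) : ∃ m ≤ 7, ∑ k ∈ Finset.range q, tr (w ^ k) = ((q * (19 * m) : ℕ) : ZMod 31) := by
  have hfin : Finite Cfsg.Spor.HN := Nat.finite_of_card_ne_zero (by
    rw [Cfsg.Agent.KFacts.HN.Classes.card_HN]; norm_num)
  obtain ⟨ρ, hρ, hc⟩ := exists_rep
  obtain ⟨m, hm, h⟩ := DefZero.exists_mult ρ (p := 19) (a := 1) (by norm_num)
    (by rw [Cfsg.Agent.KFacts.HN.Classes.card_HN]; norm_num)
    (by rw [Cfsg.Agent.KFacts.HN.Classes.card_HN]; norm_num) (by norm_num) hx hq hw hxw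
  refine ⟨m, by omega, ?_⟩
  have h1 := hc ((Multiset.range q).map fun k => w ^ k) ((q * (19 * m) : ℕ) : ℤ) (by
    rw [Multiset.map_map, Int.cast_natCast, ← h]
    rfl)
  rw [Multiset.map_map, Int.cast_natCast] at h1
  exact h1

end Cfsg.Agent.H845.HNMult
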